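import Cfsg.Agent.Lib.Spor.UFourType.Uniq.Cert.FullSteps0
import Cfsg.Agent.Lib.Spor.UFourType.Uniq.Cert.FullSteps1
import Cfsg.Agent.Lib.Spor.UFourType.Uniq.Cert.FullSteps2
import Cfsg.Agent.Lib.Spor.UFourType.Uniq.Cert.FullSteps3
import Cfsg.Agent.Lib.Spor.UFourType.Uniq.Cert.FullSteps4
import Cfsg.Agent.Lib.Spor.UFourType.Uniq.Cert.FullRows

/-!
A bound 2835 for an index: tables found by a computer search, checked by `decide +kernel`.
-/

set_option autoImplicit false
set_option maxRecDepth 100000

namespace CfsgLib.Spor.UFourType.CertFull

open CfsgLib.Spor.TC CfsgLib.Spor.UFourType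

theorem steps_ok : cert.StepsOK 0 8178 :=
  ((((((((((((((((steps0.append _ steps1).append _ steps2).append _ steps3).append _ steps4).append _ steps5).append _ steps6).append _ steps7).append _ steps8).append _ steps9).append _ steps10).append _ steps11).append _ steps12).append _ steps13).append _ steps14).append _ steps15).append _ steps16)

theorem rows_ok : cert.RowsOK 8178 2835 0 2835 :=
  (((((rows0.append _ rows1).append _ rows2).append _ rows3).append _ rows4).append _ rows5)

theorem row_zero : cert.rowNode 0 = 0 := by decide +kernel

end CfsgLib.Spor.UFourType.CertFull
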